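import Mathlib
import Cfsg.Agent.Lib.Frobenius.Basic

/-!
# Constructing Frobenius complements

* `shrink`: a Frobenius complement in a finite group of any universe gives one in a group in `Type`;
* `of_fixedPointFree`: a nontrivial finite group with a fixed-point-free action on a nontrivial finite
  abelian group is a Frobenius complement.
-/

set_option autoImplicit false

namespace Cfsg.Agent.Lib.FrobComplement.Build

/-- `H` is, up to isomorphism, a Frobenius complement of a finite group in `Type`. -/
def IsComplementType (H : Type*) [Group H] : Prop :=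
  ∃ (L : Type) (_ : Group L) (_ : Finite L) (C : Subgroup L),
    Cfsg.IsFrobeniusComplement C ∧ Nonempty (H ≃* C)

theorem map_equiv {L L' : Type*} [Group L] [Group L'] (e : L ≃* L') {C : Subgroup L}
    (hC : Cfsg.IsFrobeniusComplement C) : Cfsg.IsFrobeniusComplement (C.map e.toMonoidHom) := by
  obtain ⟨h1, h2, h3⟩ := Lib.Frobenius.isFrobeniusComplement_iff.mp hC
  have hmem : ∀ y : L', y ∈ C.map e.toMonoidHom ↔ e.symm y ∈ C := fun y =>
    Subgroup.mem_map_equiv
  refine Lib.Frobenius.isFrobeniusComplement_iff.mpr ⟨?_, ?_, fun g hg x hx hx' => ?_⟩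
  · intro h
    refine h1 ((Subgroup.eq_bot_iff_forall C).mpr fun c hc => e.injective ?_)
    have : e c ∈ C.map e.toMonoidHom := (hmem _).mpr (by simpa using hc)
    rw [h, Subgroup.mem_bot] at this
    rw [this, map_one]
  · intro h
    refine h2 ((Subgroup.eq_top_iff' C).mpr fun c => ?_)
    have := (hmem (e c)).mp (h ▸ Subgroup.mem_top _)
    simpa using this
  · rw [hmem] at hg hx hx'
    refine e.symm.injective ?_
    rw [h3 (e.symm g) hg (e.symm x) hx (by simpa using hx'), map_one]

theorem shrink_index {L H : Type*} [Group L] [Finite L] [Group H] {C : Subgroup L}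
    (hC : Cfsg.IsFrobeniusComplement C) (e : H ≃* C) :
    ∃ (L' : Type) (_ : Group L') (_ : Finite L') (C' : Subgroup L'),
      Cfsg.IsFrobeniusComplement C' ∧ Nonempty (H ≃* C') ∧ C'.index = C.index := by
  have : Small.{0} L := Countable.toSmall L
  let F : L ≃* Shrink.{0} L := Shrink.mulEquiv.symm
  have : Finite (Shrink.{0} L) := Finite.of_equiv L F.toEquiv
  exact ⟨Shrink.{0} L, inferInstance, inferInstance, C.map F.toMonoidHom, map_equiv F hC,
    ⟨e.trans (F.subgroupMap C)⟩, Subgroup.index_map_equiv C F⟩

theorem shrink {L H : Type*} [Group L] [Finite L] [Group H] {C : Subgroup L}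
    (hC : Cfsg.IsFrobeniusComplement C) (e : H ≃* C) : IsComplementType H := by
  obtain ⟨L', i, j, C', h1, h2, -⟩ := shrink_index hC e
  exact ⟨L', i, j, C', h1, h2⟩

/-- The automorphisms of `Multiplicative V` given by an action on `V`. -/
def toMulAutHom (H V : Type*) [Group H] [AddCommGroup V] [DistribMulAction H V] :
    H →* MulAut (Multiplicative V) where
  toFun h := AddEquiv.toMultiplicative (DistribMulAction.toAddEquiv V h)
  map_one' := by
    ext v
    exact congrArg Multiplicative.ofAdd (one_smul H (Multiplicative.toAdd v))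
  map_mul' a b := by
    ext v
    exact congrArg Multiplicative.ofAdd (mul_smul a b (Multiplicative.toAdd v))

open SemidirectProduct in
/-- A fixed-point-free action gives a Frobenius complement, of index the order of the module. -/
theorem of_fixedPointFree_index {H : Type*} [Group H] [Finite H] [Nontrivial H] {V : Type*}
    [AddCommGroup V] [Finite V] [Nontrivial V] [DistribMulAction H V]
    (hfree : ∀ h : H, h ≠ 1 → ∀ v : V, h • v = v → v = 0) :
    ∃ (L : Type) (_ : Group L) (_ : Finite L) (C : Subgroup L),
      Cfsg.IsFrobeniusComplement C ∧ Nonempty (H ≃* C) ∧ C.index = Nat.card V := by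
  let φ := toMulAutHom H V
  have : Finite (Multiplicative V ⋊[φ] H) := Finite.of_equiv _ SemidirectProduct.equivProd.symm
  set C := (inr : H →* Multiplicative V ⋊[φ] H).range with hCdef
  suffices hFC : Cfsg.IsFrobeniusComplement C by
    obtain ⟨L', i, j, C', h1, h2, h3⟩ := shrink_index hFC (MonoidHom.ofInjective inr_injective)
    refine ⟨L', i, j, C', h1, h2, h3.trans ?_⟩
    have h4 := C.index_mul_card
    rw [Nat.card_congr (MonoidHom.ofInjective inr_injective).toEquiv.symm,
      SemidirectProduct.card] at h4
    exact Nat.eq_of_mul_eq_mul_right Nat.card_pos h4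
  have hmem : ∀ z : Multiplicative V ⋊[φ] H, z ∈ C ↔ z.left = 1 := by
    intro z
    constructor
    · rintro ⟨h, rfl⟩; simp
    · intro hz
      exact ⟨z.right, SemidirectProduct.ext (by simp [hz]) (by simp)⟩
  refine Lib.Frobenius.isFrobeniusComplement_iff.mpr ⟨?_, ?_, ?_⟩
  · obtain ⟨h, hh⟩ := exists_ne (1 : H)
    intro hb
    have : (inr h : Multiplicative V ⋊[φ] H) ∈ C := ⟨h, rfl⟩
    rw [hb, Subgroup.mem_bot] at this
    exact hh (inr_injective (this.trans (map_one _).symm))
  · obtain ⟨v, hv⟩ := exists_ne (0 : V)
    intro ht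
    have := (hmem (inl (Multiplicative.ofAdd v))).mp (ht ▸ Subgroup.mem_top _)
    simp at this
    exact hv this
  · intro g hg x hx hx'
    rw [hmem] at hx hx' hg
    by_contra hx1
    have hxr : x.right ≠ 1 := fun h => hx1 (SemidirectProduct.ext hx h)
    -- the left component of `g` is fixed by the right component of `x`
    apply hg
    have hfix : φ x.right g.left = g.left := by
      simp only [mul_left, inv_left, inv_right, mul_right, hx, map_one, map_mul, mul_one] at hx'
      have h2 : φ g.right⁻¹ g.left⁻¹ * φ g.right⁻¹ (φ x.right g.left) = 1 := by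
        simpa [map_mul, MulAut.mul_apply] using hx'
      rw [← map_mul, MulEquiv.map_eq_one_iff, inv_mul_eq_one] at h2
      exact h2.symm
    have h0 := hfree x.right hxr (Multiplicative.toAdd g.left)
      (congrArg Multiplicative.toAdd hfix)
    exact Multiplicative.toAdd.injective h0

/-- A fixed-point-free action gives a Frobenius complement. -/
theorem of_fixedPointFree {H : Type*} [Group H] [Finite H] [Nontrivial H] {V : Type*}
    [AddCommGroup V] [Finite V] [Nontrivial V] [DistribMulAction H V]
    (hfree : ∀ h : H, h ≠ 1 → ∀ v : V, h • v = v → v = 0) : IsComplementType H := by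
  obtain ⟨L, i, j, C, h1, h2, -⟩ := of_fixedPointFree_index hfree
  exact ⟨L, i, j, C, h1, h2⟩

end Cfsg.Agent.Lib.FrobComplement.Build
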